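import Cfsg.Agent.Srg.Rows
import Cfsg.Agent.Leech.HS100
import Cfsg.Agent.Leech.Co1

/-! The Higman-Sims graph on the numbers below 100 and its automorphism group. -/

set_option autoImplicit false
set_option maxRecDepth 100000

namespace CF.Srg.HS

open CF.Comp
open scoped Pointwise

noncomputable def T : BT Nat := (BT.node (nat_lit 50) (BT.node (nat_lit 25) (BT.node (nat_lit 12) (BT.node (nat_lit 6) (BT.node (nat_lit 3) (BT.node (nat_lit 1) (BT.leaf (nat_lit 0x9830410060442c20c01400428))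
 (BT.node (nat_lit 2) (BT.leaf (nat_lit 0x900916200104a904224200450))
 (BT.leaf (nat_lit 0xc00030105501c8200820c1038))))
 (BT.node (nat_lit 4) (BT.leaf (nat_lit 0xc0ee1001a010a008814045))
 (BT.node (nat_lit 5) (BT.leaf (nat_lit 0x2714c100084800c0408c24006))
 (BT.leaf (nat_lit 0x224980808aa00004004b08845)))))
 (BT.node (nat_lit 9) (BT.node (nat_lit 7) (BT.leaf (nat_lit 0x1806006200102810014e22aa))
 (BT.node (nat_lit 8) (BT.leaf (nat_lit 0xaa18000014704800aa8114040))
 (BT.leaf (nat_lit 0x11870634a244800009a80000))))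
 (BT.node (nat_lit 10) (BT.leaf (nat_lit 0xc0009c105064045240c800840))
 (BT.node (nat_lit 11) (BT.leaf (nat_lit 0x6100080990a14241000895003))
 (BT.leaf (nat_lit 0x11140368250008000600b5220))))))
 (BT.node (nat_lit 18) (BT.node (nat_lit 15) (BT.node (nat_lit 13) (BT.leaf (nat_lit 0xa000608460182a0d502c04))
 (BT.node (nat_lit 14) (BT.leaf (nat_lit 0x8230012041886058002a19040))
 (BT.leaf (nat_lit 0xc2100242002410107248c98))))
 (BT.node (nat_lit 16) (BT.leaf (nat_lit 0x4d00260110068a00648406020))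
 (BT.node (nat_lit 17) (BT.leaf (nat_lit 0x401f0100a0490a4410002c88))
 (BT.leaf (nat_lit 0x80a0801d286f028800000850)))))
 (BT.node (nat_lit 21) (BT.node (nat_lit 19) (BT.leaf (nat_lit 0x1031002908a41042e50004044))
 (BT.node (nat_lit 20) (BT.leaf (nat_lit 0xe600400005a3014700000d44))
 (BT.leaf (nat_lit 0x11845c214009b0405000010a0))))
 (BT.node (nat_lit 23) (BT.node (nat_lit 22) (BT.leaf (nat_lit 0x40818345310a2c00006122))
 (BT.leaf (nat_lit 0x187806305014130009051)))
 (BT.node (nat_lit 24) (BT.leaf (nat_lit 0x1882000404009000bf0002738))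
 (BT.leaf (nat_lit 0x6058410910090480e0005141)))))))
 (BT.node (nat_lit 37) (BT.node (nat_lit 31) (BT.node (nat_lit 28) (BT.node (nat_lit 26) (BT.leaf (nat_lit 0x1908cc44a0641005020006004))
 (BT.node (nat_lit 27) (BT.leaf (nat_lit 0xc30604100185029090005222))
 (BT.leaf (nat_lit 0x10610008a1813025000009398))))
 (BT.node (nat_lit 29) (BT.leaf (nat_lit 0x34c0402f1432800004c50000))
 (BT.node (nat_lit 30) (BT.leaf (nat_lit 0x40602081488b0022403c00882))
 (BT.leaf (nat_lit 0xa0085800005961a5001848800)))))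
 (BT.node (nat_lit 34) (BT.node (nat_lit 32) (BT.leaf (nat_lit 0x1000b2822862294405800084))
 (BT.node (nat_lit 33) (BT.leaf (nat_lit 0x8019a200318400ab000d84000))
 (BT.leaf (nat_lit 0x4c9d0e20004280008c9082))))
 (BT.node (nat_lit 35) (BT.leaf (nat_lit 0xa0046810041090a03d8211))
 (BT.node (nat_lit 36) (BT.leaf (nat_lit 0x4540b64001080015000a61081))
 (BT.leaf (nat_lit 0x20401b04e028800d4e000440))))))
 (BT.node (nat_lit 43) (BT.node (nat_lit 40) (BT.node (nat_lit 38) (BT.leaf (nat_lit 0x2f0041008200ea04120241208))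
 (BT.node (nat_lit 39) (BT.leaf (nat_lit 0x9600035000044a8ca490022))
 (BT.leaf (nat_lit 0x714010080c610804705022008))))
 (BT.node (nat_lit 41) (BT.leaf (nat_lit 0x300d408188018920880486200))
 (BT.node (nat_lit 42) (BT.leaf (nat_lit 0x38004260020025036c230005))
 (BT.leaf (nat_lit 0x84822c026120824001142610)))))
 (BT.node (nat_lit 46) (BT.node (nat_lit 44) (BT.leaf (nat_lit 0x586004c1c0200c001c0211050))
 (BT.node (nat_lit 45) (BT.leaf (nat_lit 0xbd0a00076a0101044000100a))
 (BT.leaf (nat_lit 0x105e90404d481022080008440))))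
 (BT.node (nat_lit 48) (BT.node (nat_lit 47) (BT.leaf (nat_lit 0x30820240d8bd084200004201))
 (BT.leaf (nat_lit 0x828804008810db010008987)))
 (BT.node (nat_lit 49) (BT.leaf (nat_lit 0xe000038000000f0000fff0000))
 (BT.leaf (nat_lit 0x4000a0d40c2000020d81a6003))))))))
 (BT.node (nat_lit 75) (BT.node (nat_lit 62) (BT.node (nat_lit 56) (BT.node (nat_lit 53) (BT.node (nat_lit 51) (BT.leaf (nat_lit 0x10c5868020000402444422584))
 (BT.node (nat_lit 52) (BT.leaf (nat_lit 0x70004a20700413001938006))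
 (BT.leaf (nat_lit 0xc12834002040418078300444))))
 (BT.node (nat_lit 54) (BT.leaf (nat_lit 0xb091d000002004410b02a9008))
 (BT.node (nat_lit 55) (BT.leaf (nat_lit 0x22c4008004190000182079303))
 (BT.leaf (nat_lit 0x1001ab2240e00864182018)))))
 (BT.node (nat_lit 59) (BT.node (nat_lit 57) (BT.leaf (nat_lit 0x51028104c9848040044680088))
 (BT.node (nat_lit 58) (BT.leaf (nat_lit 0x4060300010aa1a80024407a0))
 (BT.leaf (nat_lit 0x8122a102808208052281291))))
 (BT.node (nat_lit 60) (BT.leaf (nat_lit 0x404545200500d001a8062420))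
 (BT.node (nat_lit 61) (BT.leaf (nat_lit 0x2880488102300600d19002806))
 (BT.leaf (nat_lit 0xd020040401490143280434120))))))
 (BT.node (nat_lit 68) (BT.node (nat_lit 65) (BT.node (nat_lit 63) (BT.leaf (nat_lit 0x421440380042749000e00884))
 (BT.node (nat_lit 64) (BT.leaf (nat_lit 0x88800e0030102619020051130))
 (BT.leaf (nat_lit 0x102041e408080104111228684))))
 (BT.node (nat_lit 66) (BT.leaf (nat_lit 0x640210010808c14039a200841))
 (BT.node (nat_lit 67) (BT.leaf (nat_lit 0x2401020800100385230126305))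
 (BT.leaf (nat_lit 0x809032200418009261b020420)))))
 (BT.node (nat_lit 71) (BT.node (nat_lit 69) (BT.leaf (nat_lit 0x8200811425400094024168508))
 (BT.node (nat_lit 70) (BT.leaf (nat_lit 0xf8008b8004888024410005140))
 (BT.leaf (nat_lit 0x2455120912102c20402801040))))
 (BT.node (nat_lit 73) (BT.node (nat_lit 72) (BT.leaf (nat_lit 0x8a88e48440088008088640c00))
 (BT.leaf (nat_lit 0x39da020100882001201610204)))
 (BT.node (nat_lit 74) (BT.leaf (nat_lit 0x6c4280009040042108054290a))
 (BT.leaf (nat_lit 0xa28100001081a2c0e06400908)))))))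
 (BT.node (nat_lit 87) (BT.node (nat_lit 81) (BT.node (nat_lit 78) (BT.node (nat_lit 76) (BT.leaf (nat_lit 0x512100a114470d1220000028))
 (BT.node (nat_lit 77) (BT.leaf (nat_lit 0xc9340310311003280002811))
 (BT.leaf (nat_lit 0x2204016c861504098000880a))))
 (BT.node (nat_lit 79) (BT.leaf (nat_lit 0x201201080e8040a081318820a))
 (BT.node (nat_lit 80) (BT.leaf (nat_lit 0x6712002090008002c2720608))
 (BT.leaf (nat_lit 0xa200184a0820208840514306)))))
 (BT.node (nat_lit 84) (BT.node (nat_lit 82) (BT.leaf (nat_lit 0x3006090880402540924018144))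
 (BT.node (nat_lit 83) (BT.leaf (nat_lit 0x4042020815820012246110151))
 (BT.leaf (nat_lit 0x20002b00136b00b03010230))))
 (BT.node (nat_lit 85) (BT.leaf (nat_lit 0x49020944444a4010109050022))
 (BT.node (nat_lit 86) (BT.leaf (nat_lit 0x822164b020310a04400825000))
 (BT.leaf (nat_lit 0xc820200400a44215211300818))))))
 (BT.node (nat_lit 93) (BT.node (nat_lit 90) (BT.node (nat_lit 88) (BT.leaf (nat_lit 0x44200118000006505520211aa))
 (BT.node (nat_lit 89) (BT.leaf (nat_lit 0x40000c9480038304104042991))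
 (BT.leaf (nat_lit 0x218e9a001600808002c0c2001))))
 (BT.node (nat_lit 91) (BT.leaf (nat_lit 0x800049340004c3c8838084020))
 (BT.node (nat_lit 92) (BT.leaf (nat_lit 0x4420015889464924000904040))
 (BT.leaf (nat_lit 0x802100900010052a892108d50)))))
 (BT.node (nat_lit 96) (BT.node (nat_lit 94) (BT.leaf (nat_lit 0x50021a49000405230110820b0))
 (BT.node (nat_lit 95) (BT.leaf (nat_lit 0x908808a464a10002805098010))
 (BT.leaf (nat_lit 0x5103a090101c20068a8081))))
 (BT.node (nat_lit 98) (BT.node (nat_lit 97) (BT.leaf (nat_lit 0x60020121212429800a940803))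
 (BT.leaf (nat_lit 0x2024766106101a0400004b0)))
 (BT.node (nat_lit 99) (BT.leaf (nat_lit 0x29d402222103088820008604))
 (BT.leaf (nat_lit 0x546004b8a021000140002287)))))))))
noncomputable def K0_0 : Net := (Net.cons (nat_lit 1) (nat_lit 0x1145041145014414441515104) (Net.cons (nat_lit 2) (nat_lit 0x2202113231121022132002310) (Net.cons (nat_lit 4) (nat_lit 0x40a00080b0103010f090103) (Net.cons (nat_lit 8) (nat_lit 0x1000750091005000c00008) (Net.cons (nat_lit 16) (nat_lit 0x842000077b400000002) (Net.cons (nat_lit 32) (nat_lit 0x8000000008024a990) (Net.cons (nat_lit 64) (nat_lit 0x9a1bee9f1) (Net.cons (nat_lit 32) (nat_lit 0x70000000003187dbc) (Net.cons (nat_lit 16) (nat_lit 0x344800007ace0000befb) (Net.cons (nat_lit 8) (nat_lit 0x41004c001300b200c40022) (Net.cons (nat_lit 4) (nat_lit 0xa0003070b09000706060600) (Net.cons (nat_lit 2) (nat_lit 0x3031202013303122321231122) (Net.cons (nat_lit 1) (nat_lit 0x1154540101544145045001014) Net.nil)))))))))))))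
noncomputable def K0_1 : Net := (Net.cons (nat_lit 1) (nat_lit 0x544451055541141015044) (Net.cons (nat_lit 2) (nat_lit 0x3320111223103333300010300) (Net.cons (nat_lit 4) (nat_lit 0xa0a0c0b0e07000f08000c01) (Net.cons (nat_lit 8) (nat_lit 0xd1008f006200c000460004) (Net.cons (nat_lit 16) (nat_lit 0x198500002b9000000002) (Net.cons (nat_lit 32) (nat_lit 0x800000000249c9860) (Net.cons (nat_lit 64) (nat_lit 0xeaffcfc73) (Net.cons (nat_lit 32) (nat_lit 0x700000000a58c9abd) (Net.cons (nat_lit 16) (nat_lit 0x491d0000e8af0000b2b4) (Net.cons (nat_lit 8) (nat_lit 0xfa00f100080052009400cd) (Net.cons (nat_lit 4) (nat_lit 0x90a070a02080005040b0a03) (Net.cons (nat_lit 2) (nat_lit 0x2312310130233212232322002) (Net.cons (nat_lit 1) (nat_lit 0x10404100141055415014051) Net.nil)))))))))))))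
noncomputable def K0 : List Net := [K0_0, K0_1]
noncomputable def K1_0 : Net := (Net.cons (nat_lit 1) (nat_lit 0x5411510054105005444451054) (Net.cons (nat_lit 2) (nat_lit 0x3113013100013211023102010) (Net.cons (nat_lit 4) (nat_lit 0x4050a05080c03070d080f00) (Net.cons (nat_lit 8) (nat_lit 0xce0036003c00780014000a) (Net.cons (nat_lit 16) (nat_lit 0xac970000a82600000005) (Net.cons (nat_lit 32) (nat_lit 0x50000000083a22e10) (Net.cons (nat_lit 64) (nat_lit 0xcaba67e73) (Net.cons (nat_lit 32) (nat_lit 0xa0000000050806eb3) (Net.cons (nat_lit 16) (nat_lit 0xd6380000560100009379) (Net.cons (nat_lit 8) (nat_lit 0x2500b200e8006300120066) (Net.cons (nat_lit 4) (nat_lit 0xf0805070a0804010c0f0e) (Net.cons (nat_lit 2) (nat_lit 0x1012011220010001031133120) (Net.cons (nat_lit 1) (nat_lit 0x444014411155405405110144) Net.nil)))))))))))))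
noncomputable def K1_1 : Net := (Net.cons (nat_lit 1) (nat_lit 0x1004555450045551154000500) (Net.cons (nat_lit 2) (nat_lit 0x20100021110001331211100) (Net.cons (nat_lit 4) (nat_lit 0x70b0501060009000d050709) (Net.cons (nat_lit 8) (nat_lit 0x9e00c30069006900610005) (Net.cons (nat_lit 16) (nat_lit 0x748d0000800100000003) (Net.cons (nat_lit 32) (nat_lit 0x60000000084283990) (Net.cons (nat_lit 64) (nat_lit 0xff53ab9f0) (Net.cons (nat_lit 32) (nat_lit 0x900000000c5147eb3) (Net.cons (nat_lit 16) (nat_lit 0xd0fa00009ef5000034e1) (Net.cons (nat_lit 8) (nat_lit 0x23002e004f00cd00f3008a) (Net.cons (nat_lit 4) (nat_lit 0xb04090c04010d0d080d0303) (Net.cons (nat_lit 2) (nat_lit 0x2302020010202022133113230) (Net.cons (nat_lit 1) (nat_lit 0x1005400505155404115040410) Net.nil)))))))))))))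
noncomputable def K1_2 : Net := (Net.cons (nat_lit 1) (nat_lit 0x1400144404015001540554040) (Net.cons (nat_lit 2) (nat_lit 0x2310220121203220223303200) (Net.cons (nat_lit 4) (nat_lit 0xa000d090304030b020504) (Net.cons (nat_lit 8) (nat_lit 0xbd00350080004900470003) (Net.cons (nat_lit 16) (nat_lit 0xa32400001f0e00000004) (Net.cons (nat_lit 32) (nat_lit 0x500000000040ac980) (Net.cons (nat_lit 64) (nat_lit 0x67f4ac9e1) (Net.cons (nat_lit 32) (nat_lit 0x100000000d2ec81f8) (Net.cons (nat_lit 16) (nat_lit 0xa3fb00006b41000060c7) (Net.cons (nat_lit 8) (nat_lit 0xfd002f00f1004b00d400cb) (Net.cons (nat_lit 4) (nat_lit 0x709090d060d0608010c0600) (Net.cons (nat_lit 2) (nat_lit 0x2302232022021223021032200) (Net.cons (nat_lit 1) (nat_lit 0x5045050054055101444150104) Net.nil)))))))))))))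
noncomputable def K1_3 : Net := (Net.cons (nat_lit 1) (nat_lit 0x1104540400144004155500500) (Net.cons (nat_lit 2) (nat_lit 0x100212021032201023030) (Net.cons (nat_lit 4) (nat_lit 0x1070d010f0b09050f070501) (Net.cons (nat_lit 8) (nat_lit 0xe700e0003d008000820000) (Net.cons (nat_lit 16) (nat_lit 0x9200000206200000005) (Net.cons (nat_lit 32) (nat_lit 0x9000000001d428020) (Net.cons (nat_lit 64) (nat_lit 0xfdd7b84e4) (Net.cons (nat_lit 32) (nat_lit 0xc00000000f5001521) (Net.cons (nat_lit 16) (nat_lit 0x923200001f720000d721) (Net.cons (nat_lit 8) (nat_lit 0xe600640058000d00f80045) (Net.cons (nat_lit 4) (nat_lit 0xf0b010d0202090e060f040d) (Net.cons (nat_lit 2) (nat_lit 0x3232120312323220123311020) (Net.cons (nat_lit 1) (nat_lit 0x1040115444554010441454544) Net.nil)))))))))))))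
noncomputable def K1_4 : Net := (Net.cons (nat_lit 1) (nat_lit 0x5555114040555011550541500) (Net.cons (nat_lit 2) (nat_lit 0x3111001301131031033033000) (Net.cons (nat_lit 4) (nat_lit 0x5060d0902070c0f0c070900) (Net.cons (nat_lit 8) (nat_lit 0xc2000400bc004a005f0002) (Net.cons (nat_lit 16) (nat_lit 0x18b000009c600000003) (Net.cons (nat_lit 32) (nat_lit 0x5000000002a545500) (Net.cons (nat_lit 64) (nat_lit 0xeaefe5551) (Net.cons (nat_lit 32) (nat_lit 3248922945) (Net.cons (nat_lit 16) (nat_lit 0x4d770000adca00007911) (Net.cons (nat_lit 8) (nat_lit 0xae0020008000a7007f0042) (Net.cons (nat_lit 4) (nat_lit 0xe0903070c030f050e060600) (Net.cons (nat_lit 2) (nat_lit 0x1330210100103321033102010) (Net.cons (nat_lit 1) (nat_lit 0x1104005404050401150444100) Net.nil)))))))))))))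
noncomputable def K1_5 : Net := (Net.cons (nat_lit 1) (nat_lit 0x4105504505454104454414500) (Net.cons (nat_lit 2) (nat_lit 0x1133000110113231121203100) (Net.cons (nat_lit 4) (nat_lit 0xa03090c0b0200060404020a) (Net.cons (nat_lit 8) (nat_lit 0x2a009800e30011000a0004) (Net.cons (nat_lit 16) (nat_lit 0x1d6f0000809a0000000e) (Net.cons (nat_lit 32) (nat_lit 0x200000000484105f0) (Net.cons (nat_lit 64) (nat_lit 0xc5ecba7f6) (Net.cons (nat_lit 32) (nat_lit 0x600000000bad34cbc) (Net.cons (nat_lit 16) (nat_lit 0x5b970000d8930000700a) (Net.cons (nat_lit 8) (nat_lit 0x6400e000a8001d0085000e) (Net.cons (nat_lit 4) (nat_lit 0x20b05050309080906050902) (Net.cons (nat_lit 2) (nat_lit 0x3022122322113220223300220) (Net.cons (nat_lit 1) (nat_lit 0x5054541440540150004441040) Net.nil)))))))))))))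
noncomputable def K1_6 : Net := (Net.cons (nat_lit 1) (nat_lit 0x1054541440440550005401040) (Net.cons (nat_lit 2) (nat_lit 0x20122302113120220312220) (Net.cons (nat_lit 4) (nat_lit 0x70e00040608030801000802) (Net.cons (nat_lit 8) (nat_lit 0x2400ea00e7001000000006) (Net.cons (nat_lit 16) (nat_lit 0x1a8d0000830800000003) (Net.cons (nat_lit 32) (nat_lit 1082787248) (Net.cons (nat_lit 64) (nat_lit 0x748caf7f7) (Net.cons (nat_lit 32) (nat_lit 0x700000000e20c5cfd) (Net.cons (nat_lit 16) (nat_lit 0x5cec0000cb9700004907) (Net.cons (nat_lit 8) (nat_lit 0x2c00c000fc00dc0054000c) (Net.cons (nat_lit 4) (nat_lit 0xb020c0d0e0107030901070a) (Net.cons (nat_lit 2) (nat_lit 0x1333020110111331123313120) (Net.cons (nat_lit 1) (nat_lit 0x105504505554504455454500) Net.nil)))))))))))))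
noncomputable def K1_7 : Net := (Net.cons (nat_lit 1) (nat_lit 0x1040450451145400511411000) (Net.cons (nat_lit 2) (nat_lit 0x3120021313231302113333000) (Net.cons (nat_lit 4) (nat_lit 0xf0c000f09010b0703090f08) (Net.cons (nat_lit 8) (nat_lit 0xf60052005b000f0012000e) (Net.cons (nat_lit 16) (nat_lit 0x6c0200005a0600000000) (Net.cons (nat_lit 32) (nat_lit 0x300000000558b87c0) (Net.cons (nat_lit 64) (nat_lit 0xd7fbbb7ea) (Net.cons (nat_lit 32) (nat_lit 0x800000000d971e706) (Net.cons (nat_lit 16) (nat_lit 0xca4100007a2800005160) (Net.cons (nat_lit 8) (nat_lit 0x82001800f5008200ea006e) (Net.cons (nat_lit 4) (nat_lit 0x90204060f0f0a0d080c0e08) (Net.cons (nat_lit 2) (nat_lit 0x1010231220311220123020300) (Net.cons (nat_lit 1) (nat_lit 0x4004511044045005505450400) Net.nil)))))))))))))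
noncomputable def K1_8 : Net := (Net.cons (nat_lit 1) (nat_lit 0x4000105441000014104010000) (Net.cons (nat_lit 2) (nat_lit 0x313100202130023231302200) (Net.cons (nat_lit 4) (nat_lit 0x4010f03040b000d0d030000) (Net.cons (nat_lit 8) (nat_lit 0x3e0071000a004d00000000) (Net.cons (nat_lit 16) (nat_lit 0x4cab000020a10000000a) (Net.cons (nat_lit 32) (nat_lit 362824720) (Net.cons (nat_lit 64) (nat_lit 0xb3de9d4da) (Net.cons (nat_lit 32) (nat_lit 0xa0000000039804d1a) (Net.cons (nat_lit 16) (nat_lit 0x68cb00002ea10000084a) (Net.cons (nat_lit 8) (nat_lit 0xf0051008a006d00b00000) (Net.cons (nat_lit 4) (nat_lit 0x5000f03050f000d0d030200) (Net.cons (nat_lit 2) (nat_lit 0x313100302130023231302200) (Net.cons (nat_lit 1) (nat_lit 0x4000145441000015114010000) Net.nil)))))))))))))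
noncomputable def K1_9 : Net := (Net.cons (nat_lit 1) (nat_lit 0x4404015110005450400105000) (Net.cons (nat_lit 2) (nat_lit 0x1232200002032110220001000) (Net.cons (nat_lit 4) (nat_lit 0xa0f000b01060105010a0300) (Net.cons (nat_lit 8) (nat_lit 0x1a00e3002b00dd00900004) (Net.cons (nat_lit 16) (nat_lit 0xa1180000450a00000002) (Net.cons (nat_lit 32) (nat_lit 1806402288) (Net.cons (nat_lit 64) (nat_lit 0x5fbfbebf4) (Net.cons (nat_lit 32) (nat_lit 0xe000000007f2e9af6) (Net.cons (nat_lit 16) (nat_lit 0x21920000458a00008a02) (Net.cons (nat_lit 8) (nat_lit 0x9a00eb002b005f00100004) (Net.cons (nat_lit 4) (nat_lit 0xa0e03030806010f090b0b00) (Net.cons (nat_lit 2) (nat_lit 0x3032202202032132230001000) (Net.cons (nat_lit 1) (nat_lit 0x4404015110005450400105000) Net.nil)))))))))))))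
noncomputable def K1 : List Net := [K1_0, K1_1, K1_2, K1_3, K1_4, K1_5, K1_6, K1_7, K1_8, K1_9]
noncomputable def KW : List (List Nat) := [[(nat_lit 2), (nat_lit 4), (nat_lit 2), (nat_lit 4), (nat_lit 2)],
  [(nat_lit 2), (nat_lit 4), (nat_lit 1), (nat_lit 4), (nat_lit 2), (nat_lit 3), (nat_lit 3), (nat_lit 2), (nat_lit 4), (nat_lit 4), (nat_lit 2)],
  [(nat_lit 6), (nat_lit 7), (nat_lit 6), (nat_lit 8), (nat_lit 8), (nat_lit 5)],
  [(nat_lit 7), (nat_lit 5), (nat_lit 7), (nat_lit 7), (nat_lit 5)],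
  [(nat_lit 12), (nat_lit 10), (nat_lit 11), (nat_lit 11), (nat_lit 10), (nat_lit 10), (nat_lit 11)],
  [(nat_lit 9), (nat_lit 11), (nat_lit 9)],
  [(nat_lit 16)],
  [(nat_lit 13), (nat_lit 16), (nat_lit 16), (nat_lit 16), (nat_lit 13), (nat_lit 13), (nat_lit 15)],
  [(nat_lit 20), (nat_lit 20), (nat_lit 17)],
  [(nat_lit 17), (nat_lit 17), (nat_lit 20)]]
noncomputable def KC : List Lvl := [⟨(nat_lit 0), [[(nat_lit 1)],
  [(nat_lit 3)]], (nat_lit 6)⟩,
  ⟨(nat_lit 1), [[(nat_lit 5)],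
  [(nat_lit 7)]], (nat_lit 7)⟩,
  ⟨(nat_lit 2), [[(nat_lit 9)],
  [(nat_lit 11)]], (nat_lit 5)⟩,
  ⟨(nat_lit 4), [[(nat_lit 13)],
  [(nat_lit 15)]], (nat_lit 3)⟩,
  ⟨(nat_lit 5), [[(nat_lit 17)],
  [(nat_lit 19)]], (nat_lit 2)⟩,
  ⟨(nat_lit 8), [[(nat_lit 21)],
  [(nat_lit 23)]], (nat_lit 3)⟩]
noncomputable def RL : List RI := [.base (nat_lit 0) (nat_lit 0),
  .nbr (nat_lit 0) (nat_lit 0),
  .dif (nat_lit 2) (nat_lit 0),
  .dif (nat_lit 0) (nat_lit 2),
  .base (nat_lit 0) (nat_lit 1),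
  .nbr (nat_lit 0) (nat_lit 1),
  .dif (nat_lit 3) (nat_lit 0),
  .dif (nat_lit 0) (nat_lit 6),
  .dif (nat_lit 0) (nat_lit 3),
  .base (nat_lit 0) (nat_lit 2),
  .nbr (nat_lit 0) (nat_lit 2),
  .dif (nat_lit 9) (nat_lit 5),
  .dif (nat_lit 0) (nat_lit 1),
  .base (nat_lit 0) (nat_lit 22),
  .nbr (nat_lit 0) (nat_lit 22),
  .cap (nat_lit 13) (nat_lit 9),
  .dif (nat_lit 0) (nat_lit 5),
  .base (nat_lit 0) (nat_lit 10),
  .nbr (nat_lit 0) (nat_lit 10),
  .cap (nat_lit 16) (nat_lit 13),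
  .dif (nat_lit 0) (nat_lit 9),
  .cap (nat_lit 0) (nat_lit 6),
  .base (nat_lit 0) (nat_lit 6),
  .nbr (nat_lit 0) (nat_lit 6),
  .dif (nat_lit 7) (nat_lit 6),
  .dif (nat_lit 18) (nat_lit 14),
  .dif (nat_lit 0) (nat_lit 11),
  .dif (nat_lit 0) (nat_lit 8),
  .dif (nat_lit 0) (nat_lit 4),
  .dif (nat_lit 0) (nat_lit 19),
  .cnt (nat_lit 5) (nat_lit 0) (nat_lit 6),
  .nbr (nat_lit 0) (nat_lit 54),
  .cap (nat_lit 25) (nat_lit 21),
  .cap (nat_lit 0) (nat_lit 18),
  .cap (nat_lit 0) (nat_lit 15),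
  .dif (nat_lit 0) (nat_lit 3),
  .nbr (nat_lit 0) (nat_lit 50),
  .dif (nat_lit 20) (nat_lit 6),
  .dif (nat_lit 0) (nat_lit 1),
  .nbr (nat_lit 0) (nat_lit 49),
  .cap (nat_lit 12) (nat_lit 16),
  .dif (nat_lit 0) (nat_lit 9),
  .dif (nat_lit 0) (nat_lit 5),
  .cap (nat_lit 0) (nat_lit 3),
  .nbr (nat_lit 0) (nat_lit 70),
  .dif (nat_lit 12) (nat_lit 30),
  .dif (nat_lit 0) (nat_lit 27),
  .dif (nat_lit 0) (nat_lit 23),
  .cap (nat_lit 0) (nat_lit 8),
  .nbr (nat_lit 0) (nat_lit 31),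
  .cap (nat_lit 37) (nat_lit 26),
  .cap (nat_lit 0) (nat_lit 14),
  .cap (nat_lit 0) (nat_lit 2),
  .nbr (nat_lit 0) (nat_lit 65),
  .dif (nat_lit 25) (nat_lit 22),
  .dif (nat_lit 0) (nat_lit 18),
  .dif (nat_lit 0) (nat_lit 16),
  .dif (nat_lit 0) (nat_lit 12),
  .dif (nat_lit 0) (nat_lit 8),
  .dif (nat_lit 0) (nat_lit 5),
  .nbr (nat_lit 0) (nat_lit 39),
  .cap (nat_lit 15) (nat_lit 42),
  .cap (nat_lit 0) (nat_lit 38),
  .cap (nat_lit 0) (nat_lit 31),
  .nbr (nat_lit 0) (nat_lit 52),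
  .dif (nat_lit 43) (nat_lit 20),
  .cap (nat_lit 0) (nat_lit 16),
  .cap (nat_lit 0) (nat_lit 6),
  .nbr (nat_lit 0) (nat_lit 38)]
noncomputable def Rσ : Net := (Net.cons (nat_lit 1) (nat_lit 0x4441415501445000544000550) (Net.cons (nat_lit 2) (nat_lit 0x330132031233202320031000) (Net.cons (nat_lit 4) (nat_lit 0xc020004080607030405000a) (Net.cons (nat_lit 8) (nat_lit 0x2d00040010008a0098000a) (Net.cons (nat_lit 16) (nat_lit 0x70000081100000000) (Net.cons (nat_lit 32) (nat_lit 0xd0000000022522460) (Net.cons (nat_lit 64) (nat_lit 0x723fe2ef8) (Net.cons (nat_lit 32) (nat_lit 0xd000000003480ee49) (Net.cons (nat_lit 16) (nat_lit 0xa4b800004959000071f9) (Net.cons (nat_lit 8) (nat_lit 0xdf005100b600100023004e) (Net.cons (nat_lit 4) (nat_lit 0x20d060301080d0c04010a09) (Net.cons (nat_lit 2) (nat_lit 0x2231013111102211112312301) (Net.cons (nat_lit 1) (nat_lit 0x1404454515515504044515011) Net.nil)))))))))))))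
noncomputable def Rrs : List Nat := [(nat_lit 67), (nat_lit 63), (nat_lit 58), (nat_lit 54), (nat_lit 50), (nat_lit 45), (nat_lit 37), (nat_lit 32), (nat_lit 29), (nat_lit 24), (nat_lit 19), (nat_lit 15), (nat_lit 8), (nat_lit 4), (nat_lit 0)]

/-- the neighbours -/
noncomputable def row (j : ℕ) : ℕ := T.get j

theorem mdl : Mdl (rowG row 100) row 100 := mdl_rowG (d := 7) (by decide) (by decide) (by decide +kernel)

theorem sr : SR (rowG row 100) 22 0 6 := mdl.sr (d := 7) (by decide) (by decide) (by decide +kernel)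

theorem le : Finite (autG row 100) ∧ Nat.card (autG row 100) ≤ 88704000 :=
  autG_le (d := 7) (σ := Rσ) (rs := Rrs) (L := RL) (by decide) (by decide) (by decide) (by decide +kernel)

instance fin : Finite (autG row 100) := le.1

theorem chK : ChainGe K0 K1 100 7 2 KW KC 88704000 :=
  ⟨rfl, by decide, by decide, slp_of_slpOK (by decide +kernel), by decide +kernel, by decide +kernel,
    by decide +kernel⟩

theorem card : Nat.card (autG row 100) = 88704000 :=
  le_antisymm le.2 (chK.le_card (reps_nat (wf_of_wfAll (by decide +kernel))) (fun _ h => pf_eq_one h)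
    (pf_mem_autR (d := 7) (by decide) (by decide +kernel)))

theorem hom : ∃ φ : Cfsg.Spor.HS →* autG row 100, Function.Injective φ := by
  obtain ⟨φ, h⟩ := hom_of_exact (row := row) Leech.hExact (pf_mem_autR (d := 7) (by decide) (by decide +kernel))
  exact ⟨φ.comp Leech.HSEquiv.symm.toMonoidHom, h.comp Leech.HSEquiv.symm.injective⟩

theorem simple : IsSimpleGroup Cfsg.Spor.HS := have := Leech.simple_HS; Leech.HSEquiv.symm.isSimpleGroup

theorem cardHS : Nat.card Cfsg.Spor.HS = 44352000 := (Nat.card_congr Leech.HSEquiv.toEquiv).symm.trans Leech.card_HS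

end CF.Srg.HS
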