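import Cfsg.Agent.Srg.R3
import Cfsg.Agent.Srg.SuzD
import Cfsg.Agent.Comp.Suz.Nets

/-! The kernel checks for the Suzuki graph. -/

set_option autoImplicit false
set_option maxRecDepth 1000000

namespace CF.Srg.Suz

open CF.Comp

/-- the neighbours -/
noncomputable def row (j : ℕ) : ℕ := T.get j

/-- the lines through the points -/
noncomputable def tf (p : ℕ) : ℕ := lorL (lmap (Nat.shiftLeft (nat_lit 1)) (TP.get p))

/-- a Sylow 2-subgroup -/
noncomputable def Pw : List (List ℕ) := [[17], [19], [21], [23], [25], [27], [29], [31], [33], [35], [37], [39]]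

theorem a0 : mapF row 1782 11 Comp.Suz.N0_0 Comp.Suz.N0_0 = true := by decide +kernel
theorem a1 : mapF row 1782 11 Comp.Suz.N0_1 Comp.Suz.N0_1 = true := by decide +kernel
theorem a2 : mapF row 1782 11 Comp.Suz.N0_2 Comp.Suz.N0_2 = true := by decide +kernel
theorem a3 : mapF row 1782 11 Comp.Suz.N0_3 Comp.Suz.N0_3 = true := by decide +kernel
theorem a4 : mapF row 1782 11 Comp.Suz.N0_4 Comp.Suz.N0_4 = true := by decide +kernel
theorem a5 : mapF row 1782 11 Comp.Suz.N0_5 Comp.Suz.N0_5 = true := by decide +kernel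
theorem a6 : mapF row 1782 11 Comp.Suz.N0_6 Comp.Suz.N0_6 = true := by decide +kernel
theorem c2 : refOK row 1782 11 Rσ Rrs RL 896690995200 = true := by decide +kernel
theorem c3 : Bt.evsOK Comp.Suz.N 1782 11 X ws = true := by decide +kernel
theorem c4 : lall (fixW Comp.Suz.N 0) ws = true := by decide +kernel
theorem c5 : Bt.pcOK (sameW X 1782 11) 2 Pw pc = true := by decide +kernel
theorem c6 : Bt.pcOK (sameW X 1782 11) 5 [[1], [3]] [([], [[1]]), ([], [])] = true := by decide +kernel
theorem c7 : asmOK row 1782 11 0 417 109 O1 O2 = true := by decide +kernel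
theorem c8 : sideOK row 1782 11 0 417 O1 = true := by decide +kernel
theorem c9 : subOK X 1782 Pw 1 [417, 418, 432, 440, 563, 1539] O1 417 184320 [Nat.shiftLeft (nat_lit 1) 417, ln] = true := by decide +kernel
theorem d1 : orbOK X 1782 [[1], [3], [5], [7]] 4 417 O1 1365 = true := by decide +kernel
theorem d2 : orbOK X 1782 [[1], [3], [5], [7]] 4 109 O2 416 = true := by decide +kernel
theorem d3 : detOK X 1782 [[9], [11]] 10 [417, 418, 432, 440] O1 320 (Nat.land (row 417) O1) = true := by decide +kernel
theorem d4 : detOK X 1782 [[13], [15]] 8 [1, 2, 109] O2 100 (Nat.land (row 109) O2) = true := by decide +kernel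
theorem d5 : cellOK X 1782 [[1], [3]] 4 awl 417 O1 (Nat.land (row 417) O1) asz aB = true := by decide +kernel
theorem d6 : allFrom (consOK aB asz 57 320 4 acs) 0 57 = true := by decide +kernel
theorem d7 : forceL (cells X [[1], [3]] 4 awl 417) (fun Os => dfs asz acs (Int.ofNat 315) (tgt X [[]] [Nat.land (row 109) O1]) Os 0 0 0) = true := by decide +kernel
theorem l1 : sorted (tabl tf 1782) 1365 = true := by decide +kernel
theorem l2 : incF tf 1782 11 1365 (selN X [0, 1, 2, 3]) XL = true := by decide +kernel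
theorem l3 : Bt.pcOK (sameW (selN X [0, 1, 2, 3]) 1782 11) 5 [[1], [3]] [([], [[1]]), ([], [])] = true := by decide +kernel
theorem l4 : orbOK XL 1365 [[1], [3], [5], [7]] 5 1361 (full 1365) 1365 = true := by decide +kernel
theorem l5 : detOK XL 1365 [[5], [7]] 9 [0, 1, 2, 1361] (full 1365) 320 CL = true := by decide +kernel
theorem l6 : cellOK XL 1365 [[1], [3]] 4 bwl 1361 (full 1365) CL bsz bB = true := by decide +kernel
theorem l7 : allFrom (consOK bB bsz 57 320 4 bcs) 0 57 = true := by decide +kernel
theorem l8 : forceL (cells XL [[1], [3]] 4 bwl 1361) (fun Os => dfs bsz bcs (Int.ofNat 315) (fun _ => false) Os 0 0 0) = true := by decide +kernel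

end CF.Srg.Suz
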